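import Cfsg.Agent.H49.USix.Plane

/-!
A seed from a plane group: an elementary abelian subgroup of order `2 ^ 9` through `z` over a line,
with a doubly transitive set of conjugates of `z` of size twenty-one.
-/

set_option autoImplicit false
set_option linter.unusedSectionVars false
set_option maxRecDepth 20000

namespace Cfsg.Agent.H49.USix

open Cfsg
open Cfsg.Agent.H41.SUSix (K4)
open H76.LocallyS3 (cj cj_cj cj_injective commute_cj_iff)

variable {K : Type*} [Group K] {z : K} {Q : Subgroup K}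

/-- The images of the core part of a subgroup. -/
def Core.imA (S : Core z Q) (A : Subgroup K) : Set W4 := {w | ∃ q ∈ A ⊓ Q, S.π q = w}

/-- The plane data. -/
structure Frame (S : Core z Q) where
  A : Subgroup K
  hz : z ∈ A
  sq : ∀ a ∈ A, a * a = 1
  comm : ∀ a ∈ A, ∀ b ∈ A, a * b = b * a
  core : 32 ≤ Nat.card ↥(A ⊓ Q)
  smul : ∀ w ∈ S.imA A, ∀ c : K4, c • w ∈ S.imA A
  card : 512 ≤ Nat.card ↥A
  P : Set K
  P_z : z ∈ P
  P_sub : ∀ a ∈ P, a ∈ A
  P_conj : ∀ a ∈ P, ∃ g : K, cj g z = a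
  P_card : P.ncard = 21
  trans : ∀ a ∈ P, ∀ b ∈ P, ∀ a' ∈ P, ∀ b' ∈ P, a ≠ b → a' ≠ b' →
    ∃ g : K, cj g a = a' ∧ cj g b = b'
  char : ∀ g : K, ∀ a ∈ P, cj g a ∈ A → cj g a ∈ P
  pair_not : ∀ a ∈ P, ∀ b ∈ P, a ≠ b → ¬ ∃ g : K, cj g z = a * b
  stab : ∀ c : K, c * z = z * c → (∀ w ∈ S.imA A, S.ρ c w ∈ S.imA A) → ∀ a ∈ A, cj c a ∈ A

theorem span_indep {i j : Fin 45} (h : i ≠ j) {a b a' b' : K4}
    (e : a • pv i + b • pv j = a' • pv i + b' • pv j) : a = a' ∧ b = b' := by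
  obtain ⟨w, w1, w2⟩ := exists_values h 1 0
  obtain ⟨w', w1', w2'⟩ := exists_values h 0 1
  have a1 := congrArg (fun u => hh u w) e
  have a2 := congrArg (fun u => hh u w') e
  simp only [hh_add_left, hh_smul_left] at a1 a2
  rw [hh_swap w (pv i), hh_swap w (pv j)] at a1
  rw [hh_swap w' (pv i), hh_swap w' (pv j)] at a2
  simp only [w1, w2, w1', w2', one_pow, zero_pow two_ne_zero, mul_one, mul_zero, add_zero,
    zero_add] at a1 a2
  exact ⟨a1, a2⟩

theorem hh_zero_comb {i j : Fin 45} (h : Ort i j) (a b : K4) :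
    hh (a • pv i + b • pv j) (pv i) = 0 ∧ hh (a • pv i + b • pv j) (pv j) = 0 := by
  rw [hh_add_left, hh_add_left, hh_smul_left, hh_smul_left, hh_smul_left, hh_smul_left, pv_iso,
    pv_iso, ort_iff.1 h, ort_iff.1 (ort_symm h)]
  simp

/-- A line is determined by two of its points. -/
theorem line_of_two {k l : Fin 45} (hk : k ∈ line i₀ j₀) (hl : l ∈ line i₀ j₀) (hne : k ≠ l) :
    line k l = line i₀ j₀ := by
  have ho : Ort k l := line_clique ort_base (by decide) hk hl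
  refine (Finset.eq_of_subset_of_card_le (fun r hr => mem_line.2
    ⟨line_clique ort_base (by decide) hk hr, line_clique ort_base (by decide) hl hr⟩) ?_).symm
  rw [card_line ho hne, card_line ort_base (by decide)]

theorem iso_commute_tp {g : Equiv.Perm W4} (hg : Iso g) {k : Fin 45} (h : g (pv k) = pv k) :
    Commute g (tp k) := by
  refine Equiv.ext fun w => ?_
  show g (tp k w) = tp k (g w)
  rw [tp_apply, tp_apply, hg.add, hg.smul, h]
  congr 2
  conv_rhs => rw [← h, hg.herm]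

namespace Frame

variable [Finite K] {S : Core z Q} (F : Frame S)

include F

theorem P_comm {a : K} (ha : a ∈ F.A) : a * z = z * a := F.comm a ha z F.hz

theorem z_mem : z ∈ F.A ⊓ Q := ⟨F.hz, S.hzQ⟩

theorem im_wt {w : W4} (hw : w ∈ S.imA F.A) : wt4 w = 0 := by
  obtain ⟨q, hq, rfl⟩ := hw
  exact (S.sq_iff hq.2).1 (F.sq q hq.1)

theorem im_ort {w u : W4} (hw : w ∈ S.imA F.A) (hu : u ∈ S.imA F.A) : hh w u = 0 := by
  refine hh_zero_of_pol fun c => ?_
  obtain ⟨q, hq, eq'⟩ := F.smul u hu c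
  obtain ⟨r, hr, rfl⟩ := hw
  rw [← eq', ← S.comm_iff hq.2 hr.2]
  exact F.comm q hq.1 r hr.1

theorem im_add {w u : W4} (hw : w ∈ S.imA F.A) (hu : u ∈ S.imA F.A) : w + u ∈ S.imA F.A := by
  obtain ⟨q, hq, rfl⟩ := hw
  obtain ⟨r, hr, rfl⟩ := hu
  exact ⟨q * r, mul_mem hq hr, S.π_mul q hq.2 r hr.2⟩

/-- The line of the plane group. -/
theorem exists_line : ∃ i j : Fin 45, Ort i j ∧ i ≠ j ∧
    ∀ w, w ∈ S.imA F.A ↔ ∃ a b : K4, w = a • pv i + b • pv j := by
  classical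
  -- more than the multiples of one vector
  have big : ∀ v : W4, ∃ q ∈ F.A ⊓ Q, ∀ c : K4, S.π q ≠ c • v := by
    intro v
    by_contra hcon
    push Not at hcon
    choose cf hcf using fun q : ↥(F.A ⊓ Q) => hcon q.1 q.2
    let σ : K4 → K := fun c =>
      if h : ∃ q : ↥(F.A ⊓ Q), cf q = c then h.choose.1 else 1
    let f : ↥(F.A ⊓ Q) → K4 × Bool := fun q => (cf q, decide (q.1 = σ (cf q)))
    have hf : Function.Injective f := by
      intro q r e
      simp only [f, Prod.mk.injEq, decide_eq_decide] at e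
      obtain ⟨e1, e2⟩ := e
      have hσ : ∀ q : ↥(F.A ⊓ Q), q.1 = σ (cf q) ∨ q.1 = z * σ (cf q) := by
        intro q
        have hex : ∃ r : ↥(F.A ⊓ Q), cf r = cf q := ⟨q, rfl⟩
        have hm : σ (cf q) = hex.choose.1 := dif_pos hex
        rw [hm]
        exact S.π_eq hex.choose.2.2 q.2.2 (by rw [hcf, hcf q, hex.choose_spec])
      rw [e1] at e2
      refine Subtype.ext ?_
      rcases hσ q with hq | hq <;> rcases hσ r with hr | hr <;> rw [e1] at hq
      · exact hq.trans hr.symm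
      · exact hq.trans (e2.1 hq).symm
      · exact (e2.2 hr).trans hr.symm
      · exact hq.trans hr.symm
    have := Nat.card_le_card_of_injective f hf
    rw [Nat.card_prod, Nat.card_eq_fintype_card (α := K4), Nat.card_eq_fintype_card (α := Bool),
      H41.SUSix.hK, Fintype.card_bool] at this
    have := F.core
    omega
  have point : ∀ q ∈ F.A ⊓ Q, (∀ c : K4, S.π q ≠ c • (0 : W4)) →
      ∃ i, ∃ c : K4, c ≠ 0 ∧ pv i = c • S.π q ∧ pv i ∈ S.imA F.A := by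
    intro q hq h0
    obtain ⟨i, c, hc, e⟩ := exists_point (u := S.π q) (fun h => h0 0 (by rw [h, zero_smul]))
      ((iso_iff _).2 (F.im_wt ⟨q, hq, rfl⟩))
    exact ⟨i, c, hc, e, e ▸ F.smul _ ⟨q, hq, rfl⟩ c⟩
  obtain ⟨q, hq, hq0⟩ := big 0
  obtain ⟨i, c, hc, ei, hi⟩ := point q hq hq0
  obtain ⟨r, hr, hr0⟩ := big (pv i)
  obtain ⟨j, d, hd, ej, hj⟩ := point r hr fun e => by
    rw [smul_zero]; intro h; exact hr0 0 (by rw [h, zero_smul])
  have hne : i ≠ j := fun e => hr0 d⁻¹ (by rw [e, ej, inv_smul_smul₀ hd])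
  have ho : Ort i j := ort_iff.2 (F.im_ort hi hj)
  refine ⟨i, j, ho, hne, fun w => ⟨fun hw => ?_, ?_⟩⟩
  · exact perp_span ho hne (F.im_ort hw hi) (F.im_ort hw hj)
  · rintro ⟨a, b, rfl⟩
    exact F.im_add (F.smul _ hi a) (F.smul _ hj b)

/-- Transport by an element of the centraliser. -/
def move (d : K) (hd : d * z = z * d) : Frame S where
  A := F.A.map (MulAut.conj d).toMonoidHom
  hz := ⟨z, F.hz, S.cj_z hd⟩
  sq := by
    rintro _ ⟨a, ha, rfl⟩
    rw [← map_mul, F.sq a ha, map_one]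
  comm := by
    rintro _ ⟨a, ha, rfl⟩ _ ⟨b, hb, rfl⟩
    rw [← map_mul, ← map_mul, F.comm a ha b hb]
  core := by
    refine F.core.trans (Nat.card_le_card_of_injective
      (fun q : ↥(F.A ⊓ Q) => (⟨cj d q.1, ⟨q.1, q.2.1, rfl⟩, S.cj_mem hd q.2.2⟩ :
        ↥(F.A.map (MulAut.conj d).toMonoidHom ⊓ Q))) fun a b e =>
      Subtype.ext (cj_injective d (congrArg Subtype.val e)))
  smul := by
    rintro _ ⟨_, ⟨⟨a, ha, rfl⟩, hQ⟩, rfl⟩ c
    have haQ : a ∈ Q := by
      have h := S.cj_mem (S.cz_inv hd) hQ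
      rwa [show cj d⁻¹ ((MulAut.conj d).toMonoidHom a) = a from cj_inv_cj' d a] at h
    obtain ⟨r, hr, er⟩ := F.smul _ ⟨a, ⟨ha, haQ⟩, rfl⟩ c
    refine ⟨cj d r, ⟨⟨r, hr.1, rfl⟩, S.cj_mem hd hr.2⟩, ?_⟩
    rw [S.π_cj hd hr.2, er, (S.ρ_iso d hd).smul, ← S.π_cj hd haQ]
    rfl
  card := by
    rw [← Nat.card_congr (F.A.equivMapOfInjective _ (MulAut.conj d).injective).toEquiv]
    exact F.card
  P := cj d '' F.P
  P_z := ⟨z, F.P_z, S.cj_z hd⟩
  P_sub := by
    rintro _ ⟨a, ha, rfl⟩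
    exact ⟨a, F.P_sub a ha, rfl⟩
  P_conj := by
    rintro _ ⟨a, ha, rfl⟩
    obtain ⟨g, rfl⟩ := F.P_conj a ha
    exact ⟨d * g, (cj_cj d g z).symm⟩
  P_card := by rw [Set.ncard_image_of_injective _ (cj_injective d), F.P_card]
  trans := by
    rintro _ ⟨a, ha, rfl⟩ _ ⟨b, hb, rfl⟩ _ ⟨a', ha', rfl⟩ _ ⟨b', hb', rfl⟩ h h'
    obtain ⟨g, g1, g2⟩ := F.trans a ha b hb a' ha' b' hb' (fun e => h (by rw [e])) (fun e => h' (by rw [e]))
    refine ⟨d * g * d⁻¹, ?_, ?_⟩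
    · rw [← cj_cj, cj_inv_cj', ← cj_cj, g1]
    · rw [← cj_cj, cj_inv_cj', ← cj_cj, g2]
  char := by
    rintro g _ ⟨a, ha, rfl⟩ ⟨b, hb, e⟩
    have e' : cj (d⁻¹ * g * d) a = b := by
      rw [← cj_cj, ← cj_cj, ← e]
      exact cj_inv_cj' d b
    refine ⟨b, ?_, e⟩
    rw [← e'] at hb ⊢
    exact F.char _ a ha hb
  pair_not := by
    rintro _ ⟨a, ha, rfl⟩ _ ⟨b, hb, rfl⟩ h ⟨g, hg⟩
    refine F.pair_not a ha b hb (fun e => h (by rw [e])) ⟨d⁻¹ * g, ?_⟩
    rw [← cj_cj, hg, ← cj_mul', cj_inv_cj']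
  stab := by
    intro c hc hpres a ha
    obtain ⟨a, ha, rfl⟩ := ha
    refine ⟨cj (d⁻¹ * c * d) a, F.stab _ (S.cz_mul (S.cz_mul (S.cz_inv hd) hc) hd) ?_ a ha, ?_⟩
    · rintro _ ⟨q, hq, rfl⟩
      have hcd := S.cz_mul hc hd
      obtain ⟨r, ⟨⟨b, hb, rfl⟩, hrQ⟩, er⟩ := hpres (S.π (cj d q)) ⟨cj d q, ⟨⟨q, hq.1, rfl⟩, S.cj_mem hd hq.2⟩, rfl⟩
      have hbQ : b ∈ Q := by
        have h := S.cj_mem (S.cz_inv hd) hrQ
        rwa [show cj d⁻¹ ((MulAut.conj d).toMonoidHom b) = b from cj_inv_cj' d b] at h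
      refine ⟨b, ⟨hb, hbQ⟩, ?_⟩
      have er' : S.π (cj d b) = S.ρ c (S.π (cj d q)) := er
      rw [S.π_cj hd hbQ, S.π_cj hd hq.2] at er'
      rw [mul_assoc, S.ρ_mul _ _ (S.cz_inv hd) hcd, S.ρ_mul _ _ hc hd, S.ρ_inv hd,
        Equiv.Perm.mul_apply, Equiv.Perm.mul_apply, ← er']
      exact ((S.ρ d).symm_apply_apply _).symm
    · show cj d (cj (d⁻¹ * c * d) a) = cj c (cj d a)
      rw [cj_cj, cj_cj]
      congr 1
      group

section Normal

variable (hW : ∀ w, w ∈ S.imA F.A ↔ ∃ a b : K4, w = a • pv i₀ + b • pv j₀)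

theorem exists_normal : ∃ F' : Frame S,
    ∀ w, w ∈ S.imA F'.A ↔ ∃ a b : K4, w = a • pv i₀ + b • pv j₀ := by
  obtain ⟨i, j, ho, hne, h⟩ := F.exists_line
  obtain ⟨d, hd, hdi, hdj⟩ := S.exists_pair_map ho hne
  refine ⟨F.move d hd, fun w => ?_⟩
  obtain ⟨ci, hci, ei⟩ := act_spec (S.ρ_iso d hd) i
  obtain ⟨cj', hcj, ej⟩ := act_spec (S.ρ_iso d hd) j
  rw [hdi] at ei
  rw [hdj] at ej
  constructor
  · rintro ⟨_, ⟨⟨a, ha, rfl⟩, hQ⟩, rfl⟩
    have haQ : a ∈ Q := by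
      have h' := S.cj_mem (S.cz_inv hd) hQ
      rwa [show cj d⁻¹ ((MulAut.conj d).toMonoidHom a) = a from cj_inv_cj' d a] at h'
    obtain ⟨x, y, e⟩ := (h _).1 ⟨a, ⟨ha, haQ⟩, rfl⟩
    refine ⟨x * ci, y * cj', ?_⟩
    show S.π (cj d a) = _
    rw [S.π_cj hd haQ, e, (S.ρ_iso d hd).add, (S.ρ_iso d hd).smul, (S.ρ_iso d hd).smul, ei, ej,
      smul_smul, smul_smul]
  · rintro ⟨x, y, rfl⟩
    obtain ⟨a, ha, e⟩ := (h _).2 ⟨x * ci⁻¹, y * cj'⁻¹, rfl⟩
    refine ⟨cj d a, ⟨⟨a, ha.1, rfl⟩, S.cj_mem hd ha.2⟩, ?_⟩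
    rw [S.π_cj hd ha.2, e, (S.ρ_iso d hd).add, (S.ρ_iso d hd).smul, (S.ρ_iso d hd).smul, ei, ej,
      smul_smul, smul_smul, mul_assoc, inv_mul_cancel₀ hci, mul_one, mul_assoc, inv_mul_cancel₀ hcj,
      mul_one]

include hW

theorem line_mem {k : Fin 45} (hk : k ∈ line i₀ j₀) : pv k ∈ S.imA F.A := by
  obtain ⟨h1, h2⟩ := mem_line.1 hk
  exact (hW _).2 (perp_span ort_base (by decide) (ort_iff.1 (ort_symm h1)) (ort_iff.1 (ort_symm h2)))

theorem line_comm {a : K} (ha : a ∈ F.A) {k : Fin 45} (hk : k ∈ line i₀ j₀) :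
    Commute (S.ρ a) (tp k) := by
  refine iso_commute_tp (S.ρ_iso a (F.P_comm ha)) ?_
  obtain ⟨q, hq, e⟩ := F.line_mem hW hk
  rw [← e, ← S.π_cj (F.P_comm ha) hq.2, cj_fix_iff.2 (F.comm a ha q hq.1)]

/-- Elements preserving the line normalise the plane group. -/
theorem stab_of_act {c : K} (hc : c * z = z * c) (hi : act (S.ρ c) i₀ ∈ line i₀ j₀)
    (hj : act (S.ρ c) j₀ ∈ line i₀ j₀) {a : K} (ha : a ∈ F.A) : cj c a ∈ F.A := by
  refine F.stab c hc (fun w hw => ?_) a ha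
  obtain ⟨x, y, rfl⟩ := (hW w).1 hw
  obtain ⟨s, -, es⟩ := act_spec (S.ρ_iso c hc) i₀
  obtain ⟨t, -, et⟩ := act_spec (S.ρ_iso c hc) j₀
  rw [(S.ρ_iso c hc).add, (S.ρ_iso c hc).smul, (S.ρ_iso c hc).smul, es, et]
  exact F.im_add (F.smul _ (F.smul _ (F.line_mem hW hi) s) x) (F.smul _ (F.smul _ (F.line_mem hW hj) t) y)

theorem cj_Q_mem {q a : K} (hq : q ∈ Q) (ha : a ∈ F.A) : cj q a ∈ F.A := by
  refine F.stab_of_act hW (S.le q hq) ?_ ?_ ha <;> rw [S.ρ_of_Q hq, act_one]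
  · exact left_mem_line ort_base
  · exact right_mem_line ort_base

theorem P_Q_mem {q a : K} (hq : q ∈ Q) (ha : a ∈ F.P) : cj q a ∈ F.P :=
  F.char q a ha (F.cj_Q_mem hW hq (F.P_sub a ha))

theorem ne_z_cj {q a : K} (hq : q ∈ Q) (hne : a ≠ z) : cj q a ≠ z := fun h =>
  hne (cj_injective q (h.trans (S.cj_z (S.le q hq)).symm))

theorem P_not_Q {x : K} (hx : x ∈ F.P) (hxz : x ≠ z) : x ∉ Q := by
  classical
  intro hxQ
  have hall : ∀ y ∈ F.P, y ≠ z → y ∈ Q := by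
    intro y hy hyz
    obtain ⟨g, g1, g2⟩ := F.trans z F.P_z x hx z F.P_z y hy (Ne.symm hxz) (Ne.symm hyz)
    exact g2 ▸ S.cj_mem (cj_fix_iff.1 g1) hxQ
  -- the shifts by `z` of the twenty members meet the members
  let T : Set K := {z} ∪ (F.P \ {z}) ∪ (fun y => z * y) '' (F.P \ {z}) ∪ {1}
  have hTsub : T ⊆ ((F.A ⊓ Q : Subgroup K) : Set K) := by
    rintro y (((rfl | hy) | ⟨w, hw, rfl⟩) | rfl)
    · exact F.z_mem
    · exact ⟨F.P_sub y hy.1, hall y hy.1 hy.2⟩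
    · exact ⟨mul_mem F.hz (F.P_sub w hw.1), mul_mem S.hzQ (hall w hw.1 hw.2)⟩
    · exact one_mem _
  have hub : Nat.card ↥(F.A ⊓ Q) ≤ 32 := by
    choose a b hab using fun q : ↥(F.A ⊓ Q) => (hW (S.π q.1)).1 ⟨q.1, q.2, rfl⟩
    let f : ↥(F.A ⊓ Q) → (K4 × K4) × Bool := fun q =>
      ((a q, b q), decide (q.1 = (S.π_surj (S.π q.1)).choose))
    have hf : Function.Injective f := by
      intro q r e
      simp only [f, Prod.mk.injEq, decide_eq_decide] at e
      obtain ⟨⟨e1, e1'⟩, e2⟩ := e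
      have hπ : S.π q.1 = S.π r.1 := by
        rw [hab q, hab r, e1, e1']
      have key : ∀ u : K, u ∈ Q → ∀ w, w = S.π u → u = (S.π_surj w).choose ∨
          u = z * (S.π_surj w).choose := fun u hu w hw => by
        subst hw
        exact S.π_eq (S.π_surj (S.π u)).choose_spec.1 hu (S.π_surj (S.π u)).choose_spec.2
      refine Subtype.ext ?_
      rw [hπ] at e2
      rcases key q.1 q.2.2 _ hπ.symm with hq | hq <;> rcases key r.1 r.2.2 _ rfl with hr | hr
      · exact hq.trans hr.symm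
      · exact hq.trans (e2.1 hq).symm
      · exact (e2.2 hr).trans hr.symm
      · exact hq.trans hr.symm
    have := Nat.card_le_card_of_injective f hf
    simpa [Nat.card_eq_fintype_card (α := K4), H41.SUSix.hK] using this
  have hT : T.ncard = 42 := by
    have h20 : (F.P \ {z}).ncard = 20 := by
      rw [Set.ncard_diff_singleton_of_mem F.P_z, F.P_card]
    have hd : Disjoint (F.P \ {z}) ((fun y => z * y) '' (F.P \ {z})) := by
      rw [Set.disjoint_left]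
      rintro _ hy ⟨w, hw, rfl⟩
      exact F.pair_not z F.P_z w hw.1 (fun e => hw.2 e.symm) (F.P_conj _ hy.1)
    have hz1 : ∀ y ∈ F.P, z * y ≠ 1 → True := fun _ _ _ => trivial
    have n1 : z ∉ (F.P \ {z}) ∪ (fun y => z * y) '' (F.P \ {z}) := by
      rintro (h | ⟨w, hw, h⟩)
      · exact h.2 rfl
      · obtain ⟨g, hg⟩ := F.P_conj w hw.1
        have : w = 1 := mul_eq_left.1 h
        exact S.z_ne (cj_injective g (hg.trans (this.trans (by simp [cj]))))
    have n2 : (1 : K) ∉ {z} ∪ (F.P \ {z}) ∪ (fun y => z * y) '' (F.P \ {z}) := by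
      rintro ((h | h) | ⟨w, hw, h⟩)
      · exact S.z_ne h.symm
      · obtain ⟨g, hg⟩ := F.P_conj 1 h.1
        exact S.z_ne (cj_injective g (hg.trans (by simp [cj])))
      · exact hw.2 (by
          have e := eq_inv_of_mul_eq_one_right h
          rw [S.z_inv] at e
          exact e)
    show ({z} ∪ (F.P \ {z}) ∪ (fun y => z * y) '' (F.P \ {z}) ∪ {1}).ncard = 42
    rw [Set.union_singleton, Set.ncard_insert_of_notMem n2 (Set.toFinite _), Set.union_assoc,
      Set.singleton_union, Set.ncard_insert_of_notMem n1 (Set.toFinite _),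
      Set.ncard_union_eq hd (Set.toFinite _) (Set.toFinite _),
      Set.ncard_image_of_injective _ (mul_right_injective z), h20]
  have := Set.ncard_le_ncard hTsub (Set.toFinite _)
  rw [hT, ← Nat.card_coe_set_eq] at this
  exact absurd (this.trans hub) (by norm_num)

theorem P_code {x : K} (hx : x ∈ F.P) (hxz : x ≠ z) :
    ∃ m n : Fin 5, m ≤ n ∧ S.ρ x = code5 m n := by
  have hA := F.P_sub x hx
  refine mem_code5 (S.ρ_iso x (F.P_comm hA)) ?_ ?_ fun k hk => F.line_comm hW hA hk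
  · rw [← S.ρ_mul x x (F.P_comm hA) (F.P_comm hA), F.sq x hA, S.ρ_one]
  · exact fun h => F.P_not_Q hW hx hxz ((S.ρ_ker x (F.P_comm hA)).1 h)

omit hW in
theorem π_cj_Q {x q : K} (hxA : x ∈ F.A) (hq : q ∈ Q) :
    cj q x * x ∈ Q ∧ S.π (cj q x * x) = S.π q + S.ρ x (S.π q) := by
  have hx := F.P_comm hxA
  have e : cj q x * x = q * cj x q⁻¹ := by
    rw [cj, cj, inv_eq_of_mul_eq_one_right (F.sq x hxA)]
    simp only [mul_assoc]
  rw [e, S.π_mul _ hq _ (S.cj_mem hx (inv_mem hq)), S.π_cj hx (inv_mem hq), S.π_inv hq]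
  exact ⟨mul_mem hq (S.cj_mem hx (inv_mem hq)), rfl⟩

/-- The fibre of members over a code. -/
def fibP (ρ0 : Equiv.Perm W4) : Set K := {y | y ∈ F.P ∧ y ≠ z ∧ S.ρ y = ρ0}

theorem fib_mem {x q : K} (hx : x ∈ F.P) (hxz : x ≠ z) (hq : q ∈ Q) :
    cj q x ∈ F.fibP (S.ρ x) := by
  refine ⟨F.P_Q_mem hW hq hx, F.ne_z_cj hW hq hxz, ?_⟩
  rw [S.ρ_cj (S.le q hq) (F.P_comm (F.P_sub x hx)), S.ρ_of_Q hq]
  simp

/-- Every member induces a transvection. -/
theorem P_tp {x : K} (hx : x ∈ F.P) (hxz : x ≠ z) : ∃ k ∈ line i₀ j₀, S.ρ x = tp k := by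
  classical
  obtain ⟨m, n, hle, e⟩ := F.P_code hW hx hxz
  by_cases hmn : m = n
  · exact ⟨lp m, lp_mem m, by rw [e, hmn, code5_diag]⟩
  exfalso
  have big : ∀ y, y ∈ F.P → y ≠ z → ∀ k l : Fin 45, k ∈ line i₀ j₀ → l ∈ line i₀ j₀ → k ≠ l →
      S.ρ y = tp k * tp l → 16 ≤ (F.fibP (S.ρ y)).ncard := by
    intro y hy hyz k l hk hl hkl ey
    have ho : Ort k l := line_clique ort_base (by decide) hk hl
    choose w hw using fun p : K4 × K4 => exists_values hkl p.1 p.2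
    choose q hq hqw using fun p : K4 × K4 => S.π_surj (w p)
    have hval : ∀ p, S.π (cj (q p) y * y) = p.1 • pv k + p.2 • pv l := by
      intro p
      rw [(F.π_cj_Q (F.P_sub y hy) (hq p)).2, hqw, ey, Equiv.Perm.mul_apply, tp_apply l, (hw p).2,
        tp_apply, hh_add_left, (hw p).1, hh_smul_left, ort_iff.1 (ort_symm ho), mul_zero, add_zero,
        add_assoc (w p), ← add_assoc, vec_add_self, zero_add, add_comm]
    have h := Set.ncard_le_ncard (s := Set.range fun p => cj (q p) y) (t := F.fibP (S.ρ y))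
      (Set.range_subset_iff.2 fun p => F.fib_mem hW hy hyz (hq p)) (Set.toFinite _)
    rw [← Set.image_univ, Set.ncard_image_of_injective _ (fun p r h => by
      have h' : cj (q p) y = cj (q r) y := h
      have := hval p
      rw [h', hval r] at this
      obtain ⟨h1, h2⟩ := span_indep hkl this
      exact Prod.ext h1.symm h2.symm), Set.ncard_univ, Nat.card_prod, Nat.card_eq_fintype_card,
      H41.SUSix.hK] at h
    exact h
  -- a second pair of points
  obtain ⟨m', n', hle', hne', hdiff⟩ : ∃ m' n' : Fin 5, m' ≤ n' ∧ m' ≠ n' ∧ (m', n') ≠ (m, n) := by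
    have key : ∀ m n : Fin 5, ∃ m' n' : Fin 5, m' ≤ n' ∧ m' ≠ n' ∧ (m', n') ≠ (m, n) := by decide
    exact key m n
  have hk := lp_mem m
  have hl := lp_mem n
  have hk' := lp_mem m'
  have hl' := lp_mem n'
  have hkl : lp m ≠ lp n := fun h => hmn (lp_inj h)
  have hkl' : lp m' ≠ lp n' := fun h => hne' (lp_inj h)
  obtain ⟨d, hd, d1, d2⟩ := S.exists_pair_map (line_clique ort_base (by decide) hk hl) hkl
  obtain ⟨d', hd', d1', d2'⟩ := S.exists_pair_map (line_clique ort_base (by decide) hk' hl') hkl'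
  set c := d'⁻¹ * d with hcdef
  have hc := S.cz_mul (S.cz_inv hd') hd
  have hc1 : act (S.ρ c) (lp m) = lp m' := by
    rw [S.ρ_mul _ _ (S.cz_inv hd') hd, act_mul (S.ρ_iso _ (S.cz_inv hd')) (S.ρ_iso d hd), d1, ← d1',
      S.ρ_inv hd', ← act_mul (S.ρ_iso d' hd').inv (S.ρ_iso d' hd'), inv_mul_cancel, act_one]
  have hc2 : act (S.ρ c) (lp n) = lp n' := by
    rw [S.ρ_mul _ _ (S.cz_inv hd') hd, act_mul (S.ρ_iso _ (S.cz_inv hd')) (S.ρ_iso d hd), d2, ← d2',
      S.ρ_inv hd', ← act_mul (S.ρ_iso d' hd').inv (S.ρ_iso d' hd'), inv_mul_cancel, act_one]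
  have hline : line (lp m) (lp n) = line i₀ j₀ := line_of_two hk hl hkl
  have hline' : line (lp m') (lp n') = line i₀ j₀ := line_of_two hk' hl' hkl'
  have hpres : ∀ k ∈ line i₀ j₀, act (S.ρ c) k ∈ line i₀ j₀ := by
    intro k hkk
    rw [← hline'] 
    rw [← hline] at hkk
    rw [← hc1, ← hc2, ← map_line (S.ρ_iso c hc)]
    exact Finset.mem_image_of_mem _ hkk
  have hxA := F.P_sub x hx
  have hx' : cj c x ∈ F.P := F.char c x hx (F.stab_of_act hW hc (hpres _ (left_mem_line ort_base))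
    (hpres _ (right_mem_line ort_base)) hxA)
  have hxz' : cj c x ≠ z := fun h => hxz (cj_injective c (h.trans (S.cj_z hc).symm))
  have e' : S.ρ (cj c x) = tp (lp m') * tp (lp n') := by
    rw [S.ρ_cj hc (F.P_comm hxA), e, code5_pair hmn, ← mul_assoc,
      show S.ρ c * tp (lp m) * tp (lp n) * (S.ρ c)⁻¹ = S.ρ c * tp (lp m) * (S.ρ c)⁻¹ *
        (S.ρ c * tp (lp n) * (S.ρ c)⁻¹) by group, conj_tp (S.ρ_iso c hc), conj_tp (S.ρ_iso c hc),
      hc1, hc2]
  have e0 : S.ρ x = tp (lp m) * tp (lp n) := by rw [e, code5_pair hmn]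
  have hdis : Disjoint (F.fibP (S.ρ x)) (F.fibP (S.ρ (cj c x))) := by
    rw [Set.disjoint_left]
    rintro y ⟨-, -, h1⟩ ⟨-, -, h2⟩
    have h := h1.symm.trans h2
    rw [e0, e', ← code5_pair hmn, ← code5_pair hne'] at h
    obtain ⟨g1, g2⟩ := code5_inj hle hle' h
    exact hdiff (by rw [g1, g2])
  have h20 : (F.P \ {z}).ncard = 20 := by rw [Set.ncard_diff_singleton_of_mem F.P_z, F.P_card]
  have hsub : F.fibP (S.ρ x) ∪ F.fibP (S.ρ (cj c x)) ⊆ F.P \ {z} := by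
    rintro y (h | h) <;> exact ⟨h.1, h.2.1⟩
  have h := Set.ncard_le_ncard hsub (Set.toFinite _)
  rw [Set.ncard_union_eq hdis (Set.toFinite _) (Set.toFinite _), h20] at h
  have b1 := big x hx hxz _ _ hk hl hkl e0
  have b2 := big _ hx' hxz' _ _ hk' hl' hkl' e'
  omega

theorem fib_lift {x : K} (hx : x ∈ F.P) (hxz : x ≠ z) {k : Fin 45} (e : S.ρ x = tp k) :
    ∃ q : K4 → K, (∀ a, q a ∈ Q) ∧ Function.Injective (fun a => cj (q a) x) ∧
      ∀ a, cj (q a) x ∈ F.fibP (tp k) := by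
  choose w hw using exists_value k
  choose q hq hqw using fun a : K4 => S.π_surj (w a)
  refine ⟨q, hq, fun a b h => ?_, fun a => e ▸ F.fib_mem hW hx hxz (hq a)⟩
  have hv : ∀ a, S.π (cj (q a) x * x) = a • pv k := fun a => by
    rw [(F.π_cj_Q (F.P_sub x hx) (hq a)).2, hqw, e, tp_apply, hw, ← add_assoc, vec_add_self, zero_add]
  have h' : cj (q a) x = cj (q b) x := h
  have h2 := hv a
  rw [h', hv b] at h2
  exact ((smul_left_injective K4 (pv_ne k)) h2).symm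

/-- A member over every point of the line. -/
theorem P_over {k : Fin 45} (hk : k ∈ line i₀ j₀) : ∃ x ∈ F.P, x ≠ z ∧ S.ρ x = tp k := by
  classical
  obtain ⟨x, hx⟩ : (F.P \ {z}).Nonempty := Set.nonempty_of_ncard_ne_zero (by
    rw [Set.ncard_diff_singleton_of_mem F.P_z, F.P_card]; norm_num)
  obtain ⟨l, hl, el⟩ := F.P_tp hW hx.1 hx.2
  have other : ∀ l ∈ line i₀ j₀, ∃ o ∈ line i₀ j₀, l ≠ o := fun l hl => by
    by_cases h : l = i₀
    · exact ⟨j₀, right_mem_line ort_base, by rw [h]; decide⟩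
    · exact ⟨i₀, left_mem_line ort_base, h⟩
  obtain ⟨o, ho, hlo⟩ := other l hl
  obtain ⟨o', ho', hko⟩ := other k hk
  obtain ⟨d, hd, d1, d2⟩ := S.exists_pair_map (line_clique ort_base (by decide) hl ho) hlo
  obtain ⟨d', hd', d1', d2'⟩ := S.exists_pair_map (line_clique ort_base (by decide) hk ho') hko
  set c := d'⁻¹ * d with hcdef
  have hc := S.cz_mul (S.cz_inv hd') hd
  have hc1 : act (S.ρ c) l = k := by
    rw [S.ρ_mul _ _ (S.cz_inv hd') hd, act_mul (S.ρ_iso _ (S.cz_inv hd')) (S.ρ_iso d hd), d1, ← d1',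
      S.ρ_inv hd', ← act_mul (S.ρ_iso d' hd').inv (S.ρ_iso d' hd'), inv_mul_cancel, act_one]
  have hc2 : act (S.ρ c) o = o' := by
    rw [S.ρ_mul _ _ (S.cz_inv hd') hd, act_mul (S.ρ_iso _ (S.cz_inv hd')) (S.ρ_iso d hd), d2, ← d2',
      S.ρ_inv hd', ← act_mul (S.ρ_iso d' hd').inv (S.ρ_iso d' hd'), inv_mul_cancel, act_one]
  have hpres : ∀ r ∈ line i₀ j₀, act (S.ρ c) r ∈ line i₀ j₀ := by
    intro r hr
    rw [← line_of_two hk ho' hko]
    rw [← line_of_two hl ho hlo] at hr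
    rw [← hc1, ← hc2, ← map_line (S.ρ_iso c hc)]
    exact Finset.mem_image_of_mem _ hr
  refine ⟨cj c x, F.char c x hx.1 (F.stab_of_act hW hc (hpres _ (left_mem_line ort_base))
    (hpres _ (right_mem_line ort_base)) (F.P_sub x hx.1)),
    fun h => hx.2 (cj_injective c (h.trans (S.cj_z hc).symm)), ?_⟩
  rw [S.ρ_cj_tp hc (F.P_comm (F.P_sub x hx.1)) el, hc1]

/-- Each point carries exactly four members. -/
theorem card_fibP {k : Fin 45} (hk : k ∈ line i₀ j₀) : (F.fibP (tp k)).ncard = 4 := by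
  classical
  have hge : ∀ l ∈ line i₀ j₀, 4 ≤ (F.fibP (tp l)).ncard := fun l hl => by
    obtain ⟨x, hx, hxz, e⟩ := F.P_over hW hl
    obtain ⟨q, -, hinj, hm⟩ := F.fib_lift hW hx hxz e
    have h := Set.ncard_le_ncard (s := Set.range fun a => cj (q a) x) (t := F.fibP (tp l))
      (Set.range_subset_iff.2 hm) (Set.toFinite _)
    rw [← Set.image_univ, Set.ncard_image_of_injective _ hinj, Set.ncard_univ,
      Nat.card_eq_fintype_card, H41.SUSix.hK] at h
    exact h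
  haveI := Fintype.ofFinite K
  have hsum : ∑ l ∈ line i₀ j₀, (F.fibP (tp l)).ncard ≤ 20 := by
    have e : ∀ l, (F.fibP (tp l)).ncard = (F.fibP (tp l)).toFinset.card := fun l =>
      Set.ncard_eq_toFinset_card' _
    simp only [e]
    rw [← Finset.card_biUnion (fun a _ b _ hab => by
      show Disjoint (F.fibP (tp a)).toFinset (F.fibP (tp b)).toFinset
      rw [Finset.disjoint_left]
      intro y h1 h2
      rw [Set.mem_toFinset] at h1 h2
      exact hab (tp_injective (h1.2.2.symm.trans h2.2.2)))]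
    have h20 : ((F.P \ {z}).toFinset).card = 20 := by
      rw [← Set.ncard_eq_toFinset_card', Set.ncard_diff_singleton_of_mem F.P_z, F.P_card]
    rw [← h20]
    refine Finset.card_le_card fun y hy => ?_
    obtain ⟨l, -, hl⟩ := Finset.mem_biUnion.1 hy
    rw [Set.mem_toFinset] at hl ⊢
    exact ⟨hl.1, hl.2.1⟩
  rw [← Finset.sum_erase_add _ _ hk] at hsum
  have h4 : ∑ l ∈ (line i₀ j₀).erase k, 4 ≤ ∑ l ∈ (line i₀ j₀).erase k, (F.fibP (tp l)).ncard :=
    Finset.sum_le_sum fun l hl => hge l (Finset.mem_of_mem_erase hl)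
  rw [Finset.sum_const, Finset.card_erase_of_mem hk, card_line ort_base (by decide), smul_eq_mul] at h4
  have := hge k hk
  omega

/-- The seed. -/
theorem seed_of_normal : Nonempty (Seed z Q) := by
  classical
  obtain ⟨x, hx, hxz, ex⟩ := F.P_over hW (left_mem_line ort_base)
  have hxA := F.P_sub x hx
  have adj : ∀ y ∈ F.P, y ≠ x → AdjP z x x y := fun y hy hne => by
    obtain ⟨g, g1, g2⟩ := F.trans z F.P_z x hx x hx y hy (Ne.symm hxz) (Ne.symm hne)
    exact ⟨g, g1, g2⟩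
  refine ⟨⟨S, x, F.P_comm hxA, ex, F.P_conj x hx, F.pair_not z F.P_z x hx (Ne.symm hxz),
    adj z F.P_z (Ne.symm hxz), fun q hq hne => adj _ (F.P_Q_mem hW hq hx) hne, ?_, ?_⟩⟩
  · obtain ⟨c, hc, c1, c2⟩ := S.exists_pair_map (ort_symm ort_base) (show j₀ ≠ i₀ by decide)
    refine ⟨c, hc, by rw [c2]; exact ort_base, by rw [c2]; decide, adj _ ?_ fun h => ?_⟩
    · exact F.char c x hx (F.stab_of_act hW hc (by rw [c2]; exact right_mem_line ort_base)
        (by rw [c1]; exact left_mem_line ort_base) hxA)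
    · have := S.ρ_cj_tp hc (F.P_comm hxA) ex
      rw [h, ex, c2] at this
      exact absurd (tp_injective this) (by decide)
  · intro c hc h1 h2
    have hy : cj c x ∈ F.fibP (tp i₀) := ⟨F.char c x hx
      (F.stab_of_act hW hc (by rw [h1]; exact left_mem_line ort_base) h2 hxA),
      fun h => hxz (cj_injective c (h.trans (S.cj_z hc).symm)),
      by rw [S.ρ_cj_tp hc (F.P_comm hxA) ex, h1]⟩
    obtain ⟨q, hq, hinj, hm⟩ := F.fib_lift hW hx hxz ex
    have heq : (Set.range fun a => cj (q a) x) = F.fibP (tp i₀) := by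
      refine Set.eq_of_subset_of_ncard_le (Set.range_subset_iff.2 hm) ?_ (Set.toFinite _)
      rw [F.card_fibP hW (left_mem_line ort_base), ← Set.image_univ,
        Set.ncard_image_of_injective _ hinj, Set.ncard_univ, Nat.card_eq_fintype_card, H41.SUSix.hK]
      exact le_rfl
    rw [← heq] at hy
    obtain ⟨a, ha⟩ := hy
    exact ⟨q a, hq a, ha.symm⟩

end Normal

/-- A seed from the plane data. -/
theorem seed : Nonempty (Seed z Q) := by
  obtain ⟨F', hF'⟩ := F.exists_normal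
  exact F'.seed_of_normal hF'

end Frame

end Cfsg.Agent.H49.USix
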