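import Cfsg.Agent.H61.Todd.Instance
import Cfsg.Agent.S0412

/-!
A tetrad of stars with product `z`: its duads lie in the core, and the twenty-one tetrads on three
of its stars form a doubly transitive set.
-/

set_option autoImplicit false
set_option linter.unusedSectionVars false
set_option maxRecDepth 20000

namespace Cfsg.Agent.H49.USix

open Cfsg
open Cfsg.Agent.H61.Todd
open Cfsg.Agent.H41.LFi Cfsg.Agent.H43.LFi
open Cfsg.Agent.H41.SUSix (K4 ω₄ cls)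
open scoped Pointwise

section Combinatorics

variable {V : Type*} [CommGroup V] [Finite V] {Γ : Subgroup (MulAut V)} (D : Data Γ)

theorem five_stars (f f' : Fin 5 ↪ D.Star) : ∃ g : ↥Γ, ∀ i, D.act g (f i) = f' i := by
  classical
  letI := Fintype.ofFinite D.Star
  have hstar : Fintype.card D.Star = 24 := by rw [← Nat.card_eq_fintype_card, D.card_star]
  obtain ⟨⟨-, hcard⟩, h5⟩ := S0412.result hstar D.blocks_isSteiner
  have hmem : ∀ g : ↥Γ, D.act g ∈ Cfsg.setSystemAut D.blocks := by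
    intro g
    refine MulAction.mem_stabilizer_iff.2 (Set.ext fun b => ?_)
    constructor
    · rintro ⟨c, hc, rfl⟩
      exact D.act_blocks g hc
    · intro hb
      refine ⟨D.act g⁻¹ • b, D.act_blocks g⁻¹ hb, ?_⟩
      show D.act g • (D.act g⁻¹ • b) = b
      rw [smul_smul, ← map_mul, mul_inv_cancel, map_one, one_smul]
  let φ : ↥Γ →* ↥(Cfsg.setSystemAut D.blocks) := D.act.codRestrict _ hmem
  obtain ⟨Ψ, -⟩ := recognise D
  have hbij : Function.Bijective φ := by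
    rw [Nat.bijective_iff_injective_and_card]
    refine ⟨fun a b h => D.act_injective (congrArg Subtype.val h), ?_⟩
    rw [hcard, Nat.card_congr Ψ.toEquiv, S0364.result]
  haveI := h5
  obtain ⟨σ, hσ⟩ := MulAction.exists_smul_eq ↥(Cfsg.setSystemAut D.blocks) f f'
  obtain ⟨g, rfl⟩ := hbij.2 σ
  exact ⟨g, fun i => congrArg (fun f : Fin 5 ↪ D.Star => f i) hσ⟩

theorem φ_quad [DecidableEq D.Star] {a b c d : D.Star} (hab : a ≠ b) (hac : a ≠ c) (had : a ≠ d)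
    (hbc : b ≠ c) (hbd : b ≠ d) (hcd : c ≠ d) : D.φ {a, b, c, d} = D.e a b * D.e c d := by
  rw [Data.φ, Finset.prod_insert (by simp [hab, hac, had]), Finset.prod_insert (by simp [hbc, hbd]),
    Finset.prod_pair hcd, ← mul_assoc, D.g_mul, D.g_mul]

theorem quad_not {a b c d : D.Star} (hab : a ≠ b) (hac : a ≠ c) (had : a ≠ d) (hbc : b ≠ c)
    (hbd : b ≠ d) (hcd : c ≠ d) : D.e a b * D.e c d ≠ 1 ∧ D.e a b * D.e c d ∉ D.N := by
  classical
  rw [← φ_quad D hab hac had hbc hbd hcd]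
  exact D.φ_four (Finset.card_eq_four.2 ⟨a, b, c, d, hab, hac, had, hbc, hbd, hcd, rfl⟩)

theorem e_ne_one {a b : D.Star} (h : a ≠ b) : D.e a b ≠ 1 := D.ne_one_of_N (D.e_N h)

/-- Three stars. -/
structure Tri where
  a : D.Star
  b : D.Star
  c : D.Star
  hab : a ≠ b
  hac : a ≠ c
  hbc : b ≠ c

variable {D} (T : Tri D)

/-- Off the three stars. -/
def Tri.Off (x : D.Star) : Prop := x ≠ T.a ∧ x ≠ T.b ∧ x ≠ T.c

/-- The element of the tetrad through a further star. -/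
noncomputable def Tri.pnt (x : D.Star) : V := D.e T.a T.b * D.e T.c x

/-- The three duads. -/
noncomputable def Tri.duads : Set V := {D.e T.a T.b, D.e T.b T.c, D.e T.a T.c}

namespace Tri

theorem pnt_not {x : D.Star} (h : T.Off x) : T.pnt x ≠ 1 ∧ T.pnt x ∉ D.N :=
  quad_not D T.hab T.hac h.1.symm T.hbc h.2.1.symm h.2.2.symm

theorem pnt_mul {x : D.Star} : T.pnt x * D.e T.a T.b = D.e T.c x ∧
    T.pnt x * D.e T.b T.c = D.e T.a x ∧ T.pnt x * D.e T.a T.c = D.e T.b x := by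
  refine ⟨?_, ?_, ?_⟩
  · rw [pnt, mul_right_comm, D.sq, one_mul]
  · rw [pnt, mul_right_comm, D.e_mul, D.e_mul]
  · rw [pnt, mul_right_comm, D.e_comm T.a T.b, D.e_mul, D.e_mul]

theorem pnt_mul_N {x : D.Star} (h : T.Off x) {ε : V} (hε : ε ∈ T.duads) : T.pnt x * ε ∈ D.N := by
  obtain ⟨h1, h2, h3⟩ := T.pnt_mul (x := x)
  rcases hε with rfl | rfl | rfl
  · rw [h1]; exact D.e_N h.2.2.symm
  · rw [h2]; exact D.e_N h.1.symm
  · rw [h3]; exact D.e_N h.2.1.symm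

theorem pnt_pair (x y : D.Star) : T.pnt x * T.pnt y = D.e x y := by
  rw [pnt, pnt, mul_mul_mul_comm, D.sq, one_mul, D.e_comm T.c x, D.e_mul]

theorem pnt_inj {x y : D.Star} (h : T.pnt x = T.pnt y) : x = y := by
  by_contra hne
  refine e_ne_one D hne ?_
  rw [← T.pnt_pair, h, D.sq]

theorem classify {s : V} (h1 : s ≠ 1) (hN : s ∉ D.N) (hε : ∀ ε ∈ T.duads, s * ε ∈ D.N) :
    ∃ x, T.Off x ∧ s = T.pnt x := by
  classical
  have key : ∀ u v : D.Star, u ≠ v → s * D.e u v ∈ D.N → ∃ p q, u ≠ p ∧ u ≠ q ∧ v ≠ p ∧ v ≠ q ∧ p ≠ q ∧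
      s = D.e u v * D.e p q := by
    intro u v huv h
    obtain ⟨p, q, hpq, hp, hq, -⟩ := D.two_stars h
    have e : s = D.e u v * D.e p q := by
      rw [D.e_eq hpq hp hq, mul_comm s, D.cancel]
    have side : ∀ w r : D.Star, s = D.e u v * D.e w r → u ≠ w ∧ v ≠ w := by
      intro w r e'
      constructor
      · rintro rfl
        rw [D.e_comm u v, D.e_mul] at e'
        by_cases hh : v = r
        · exact h1 (by rw [e', hh, D.e_self])
        · exact hN (e' ▸ D.e_N hh)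
      · rintro rfl
        rw [D.e_mul] at e'
        by_cases hh : u = r
        · exact h1 (by rw [e', hh, D.e_self])
        · exact hN (e' ▸ D.e_N hh)
    obtain ⟨a1, a2⟩ := side p q e
    obtain ⟨b1, b2⟩ := side q p (by rw [e, D.e_comm p q])
    exact ⟨p, q, a1, b1, a2, b2, hpq, e⟩
  obtain ⟨p, q, hap, haq, hbp, hbq, hpq, e⟩ := key T.a T.b T.hab (hε _ (Or.inl rfl))
  obtain ⟨r, w, har, haw, hcr, hcw, hrw, e'⟩ :=
    key T.a T.c T.hac (hε _ (Or.inr (Or.inr rfl)))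
  have hcard : ∀ a b c d : D.Star, a ≠ b → a ≠ c → a ≠ d → b ≠ c → b ≠ d → c ≠ d →
      ({a, b, c, d} : Finset D.Star).card = 4 := fun a b c d h1 h2 h3 h4 h5 h6 =>
    Finset.card_eq_four.2 ⟨a, b, c, d, h1, h2, h3, h4, h5, h6, rfl⟩
  have c1 := hcard _ _ _ _ T.hab hap haq hbp hbq hpq
  have c2 := hcard _ _ _ _ T.hac har haw hcr hcw hrw
  have heq := D.eq_of_φ_eq (s := {T.a, T.b, p, q}) (t := {T.a, T.c, r, w})
    (by rw [φ_quad D T.hab hap haq hbp hbq hpq, φ_quad D T.hac har haw hcr hcw hrw, ← e, ← e'])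
    (by rw [c1, c2]; exact ⟨4, rfl⟩) (by
      have h := D.symmDiff_card {T.a, T.b, p, q} {T.a, T.c, r, w}
      have hi : 1 ≤ (({T.a, T.b, p, q} : Finset D.Star) ∩ {T.a, T.c, r, w}).card :=
        Finset.card_pos.2 ⟨T.a, by simp⟩
      omega)
  have hc : T.c ∈ ({T.a, T.b, p, q} : Finset D.Star) := by rw [heq]; simp
  simp only [Finset.mem_insert, Finset.mem_singleton] at hc
  rcases hc with h | h | h | h
  · exact absurd h T.hac.symm
  · exact absurd h T.hbc.symm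
  · exact ⟨q, ⟨haq.symm, hbq.symm, fun h' => hpq (h.symm.trans h'.symm)⟩, by rw [e, pnt, h]⟩
  · exact ⟨p, ⟨hap.symm, hbp.symm, fun h' => hpq (h'.trans h)⟩, by rw [e, pnt, h, D.e_comm p q]⟩

theorem pair_shift {x y w : D.Star} (hx : T.Off x) (hy : T.Off y) (hw : T.Off w) (hxy : x ≠ y) :
    D.e x y ≠ T.pnt w ∧ ∀ ε ∈ T.duads, D.e x y * ε ≠ T.pnt w := by
  classical
  refine ⟨fun h => (T.pnt_not hw).2 (h ▸ D.e_N hxy), ?_⟩
  have hW : ({T.a, T.b, T.c, w} : Finset D.Star).card = 4 := Finset.card_eq_four.2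
    ⟨_, _, _, _, T.hab, T.hac, hw.1.symm, T.hbc, hw.2.1.symm, hw.2.2.symm, rfl⟩
  have key : ∀ p q r : D.Star, p ≠ q → r ≠ p → r ≠ q → p ∈ ({T.a, T.b, T.c, w} : Finset D.Star) →
      r ∈ ({T.a, T.b, T.c, w} : Finset D.Star) → x ≠ p → x ≠ q → y ≠ p → y ≠ q → r ≠ x → r ≠ y →
      D.e x y * D.e p q ≠ T.pnt w := by
    intro p q r hpq hrp hrq hp hr xp xq yp yq rx ry h
    have hl : ({x, y, p, q} : Finset D.Star).card = 4 :=
      Finset.card_eq_four.2 ⟨x, y, p, q, hxy, xp, xq, yp, yq, hpq, rfl⟩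
    have heq := D.eq_of_φ_eq (s := {x, y, p, q}) (t := {T.a, T.b, T.c, w})
      (by rw [φ_quad D hxy xp xq yp yq hpq,
        φ_quad D T.hab T.hac hw.1.symm T.hbc hw.2.1.symm hw.2.2.symm, h]; rfl)
      (by rw [hl, hW]; exact ⟨4, rfl⟩) (by
        have h' := D.symmDiff_card {x, y, p, q} {T.a, T.b, T.c, w}
        have hi : 1 ≤ (({x, y, p, q} : Finset D.Star) ∩ {T.a, T.b, T.c, w}).card :=
          Finset.card_pos.2 ⟨p, Finset.mem_inter.2 ⟨by simp, hp⟩⟩
        omega)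
    have := heq ▸ hr
    simp only [Finset.mem_insert, Finset.mem_singleton] at this
    rcases this with h | h | h | h
    exacts [rx h, ry h, hrp h, hrq h]
  rintro ε (rfl | rfl | rfl)
  · exact key _ _ T.c T.hab T.hac.symm T.hbc.symm (by simp) (by simp) hx.1 hx.2.1 hy.1 hy.2.1
      hx.2.2.symm hy.2.2.symm
  · exact key _ _ T.a T.hbc T.hab T.hac (by simp) (by simp) hx.2.1 hx.2.2 hy.2.1 hy.2.2
      hx.1.symm hy.1.symm
  · exact key _ _ T.b T.hac T.hab.symm T.hbc (by simp) (by simp) hx.1 hx.2.2 hy.1 hy.2.2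
      hx.2.1.symm hy.2.1.symm

theorem two_trans {x y x' y' : D.Star} (hx : T.Off x) (hy : T.Off y) (hx' : T.Off x') (hy' : T.Off y')
    (h : x ≠ y) (h' : x' ≠ y') : ∃ g : ↥Γ, (∀ ε ∈ T.duads, (g : MulAut V) ε = ε) ∧
      (g : MulAut V) (T.pnt x) = T.pnt x' ∧ (g : MulAut V) (T.pnt y) = T.pnt y' := by
  have inj : ∀ x y : D.Star, T.Off x → T.Off y → x ≠ y → Function.Injective ![T.a, T.b, T.c, x, y] := by
    intro x y hx hy hne i j hij
    fin_cases i <;> fin_cases j <;>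
      simp [T.hab, T.hab.symm, T.hac, T.hac.symm, T.hbc, T.hbc.symm, hx.1, hx.2.1, hx.2.2, hx.1.symm,
        hx.2.1.symm, hx.2.2.symm, hy.1, hy.2.1, hy.2.2, hy.1.symm, hy.2.1.symm, hy.2.2.symm, hne,
        hne.symm] at hij ⊢
  obtain ⟨g, hg⟩ := five_stars D ⟨_, inj x y hx hy h⟩ ⟨_, inj x' y' hx' hy' h'⟩
  have ha : D.act g T.a = T.a := hg 0
  have hb : D.act g T.b = T.b := hg 1
  have hc : D.act g T.c = T.c := hg 2
  have h3 : D.act g x = x' := hg 3
  have h4 : D.act g y = y' := hg 4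
  refine ⟨g, ?_, ?_, ?_⟩
  · rintro ε (rfl | rfl | rfl) <;> rw [← D.e_act] <;> simp only [ha, hb, hc]
  · rw [pnt, map_mul, ← D.e_act, ← D.e_act, ha, hb, hc, h3]; rfl
  · rw [pnt, map_mul, ← D.e_act, ← D.e_act, ha, hb, hc, h4]; rfl

end Tri

/-- A tetrad with product `z`. -/
theorem exists_tri : ∃ (T : Tri D) (d : D.Star), T.Off d ∧ T.pnt d = D.z := by
  classical
  obtain ⟨u, hu, e⟩ := D.four_fibre.1 D.z D.z_ne D.z_N
  obtain ⟨a, b, c, d, hab, hac, had, hbc, hbd, hcd, rfl⟩ := Finset.card_eq_four.1 hu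
  exact ⟨⟨a, b, c, hab, hac, hbc⟩, d, ⟨had.symm, hbd.symm, hcd.symm⟩,
    (φ_quad D hab hac had hbc hbd hcd).symm.trans e⟩

theorem Tri.duad_W {d : D.Star} (hd : T.Off d) (he : T.pnt d = D.z) {ε : V} (hε : ε ∈ T.duads) :
    ε ∈ D.W := by
  have hN : ε ∈ D.N := by
    rcases hε with rfl | rfl | rfl
    exacts [D.e_N T.hab, D.e_N T.hbc, D.e_N T.hac]
  by_contra h
  refine D.excl ε hN h ?_
  rw [mul_comm, ← he]
  exact T.pnt_mul_N hd hε

theorem Tri.card_pnt : (T.pnt '' {x | T.Off x}).ncard = 21 := by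
  classical
  letI := Fintype.ofFinite D.Star
  rw [Set.ncard_image_of_injective _ fun x y h => T.pnt_inj h]
  have e : {x | T.Off x} = ((({T.a, T.b, T.c} : Finset D.Star)ᶜ : Finset D.Star) : Set D.Star) := by
    ext x
    simp [Tri.Off]
    tauto
  rw [e, Set.ncard_coe_finset, Finset.card_compl, ← Nat.card_eq_fintype_card, D.card_star,
    show ({T.a, T.b, T.c} : Finset D.Star).card = 3 from
      Finset.card_eq_three.2 ⟨_, _, _, T.hab, T.hac, T.hbc, rfl⟩]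

end Combinatorics

/-! ### In the group -/

section Group

variable {G : Type*} [Group G] [Finite G] {z : G} {Q : Subgroup G}

/-- The four-group and the twenty-one conjugates of `z` in the Thompson subgroup over it. -/
structure TetData (S : LSetup z Q) where
  t : G
  e : G
  t_mem : t ∈ piU S
  e_mem : e ∈ piU S
  t_nc : t ∈ Nc z
  e_nc : e ∈ Nc z
  te_nc : t * e ∈ Nc z
  cls_t : cls (S.π t) = 2
  π_e : S.π e = ω₄ • S.π t
  P : Set G
  P_z : z ∈ P
  P_A : ∀ x ∈ P, x ∈ Aelem S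
  P_conj : ∀ x ∈ P, IsConj z x
  P_nc : ∀ x ∈ P, x * t ∈ Nc z ∧ x * e ∈ Nc z ∧ x * (t * e) ∈ Nc z
  P_card : P.ncard = 21
  char : ∀ s ∈ Aelem S, IsConj z s → s * t ∈ Nc z → s * e ∈ Nc z → s * (t * e) ∈ Nc z → s ∈ P
  trans : ∀ x ∈ P, ∀ y ∈ P, ∀ x' ∈ P, ∀ y' ∈ P, x ≠ y → x' ≠ y' →
    ∃ m : G, m * t = t * m ∧ m * e = e * m ∧ m * x * m⁻¹ = x' ∧ m * y * m⁻¹ = y'
  pair_not : ∀ x ∈ P, ∀ y ∈ P, x ≠ y →
    x * y ∉ P ∧ x * y * t ∉ P ∧ x * y * e ∉ P ∧ x * y * (t * e) ∉ P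

set_option maxHeartbeats 1000000 in
theorem exists_tetData (S : LSetup z Q) {g : G} (hp : H92.PairSetting Q z g) : Nonempty (TetData S) := by
  classical
  set D := dataA S hp with hD
  obtain ⟨T, d, hd, he⟩ := exists_tri (D := D)
  set ta := D.e T.a T.b with hta
  have hW : ∀ ε ∈ T.duads, (ε : G) ∈ piU S := fun ε hε => T.duad_W hd he hε
  have hN : ∀ {v : ↥(Aelem S)}, v ∈ D.N ↔ (v : G) ∈ Nc z := fun {v} => Iff.rfl
  have h3 : D.e T.a T.b * D.e T.b T.c = D.e T.a T.c := D.e_mul _ _ _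
  have hnt : D.e T.a T.b ∈ D.N := D.e_N T.hab
  have hnb : D.e T.b T.c ∈ D.N := D.e_N T.hbc
  have hnc : D.e T.a T.c ∈ D.N := D.e_N T.hac
  -- the duads lie over one line
  obtain ⟨i, hi⟩ := D.exists_block (T.duad_W hd he (Or.inl rfl)) hnt
  obtain ⟨j, hj⟩ := D.exists_block (T.duad_W hd he (Or.inr (Or.inl rfl))) hnb
  have hij : i = j := by
    by_contra hne
    exact D.cross i j hne _ hi _ hj hnt hnb (by rw [h3]; exact hnc)
  subst hij
  obtain ⟨hi', ci, eci⟩ := hi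
  obtain ⟨hj', cj, ecj⟩ := hj
  have nz : ∀ v : ↥(Aelem S), v ∈ D.N → S.π (v : G) ≠ 0 → True := fun _ _ _ => trivial
  have pine : ∀ v : ↥(Aelem S), v ∈ D.N → (v : G) ∈ piU S → S.π (v : G) ≠ 0 := by
    intro v hv hvU h
    rcases (S.π_zero _ hvU.1).1 h with h' | h'
    · exact hv.1 h'
    · exact hv.2 (Eq.subst (motive := fun u => IsConj z u) h'.symm (IsConj.refl z))
  have hci : ci ≠ 0 := fun h => pine _ hnt hi' (by rw [eci, h, zero_smul])
  have hcj : cj ≠ 0 := fun h => pine _ hnb hj' (by rw [ecj, h, zero_smul])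
  have hacU : (D.e T.a T.c : G) ∈ piU S := hW _ (Or.inr (Or.inr rfl))
  have ecs : S.π (D.e T.a T.c : G) = (ci + cj) • rV i := by
    rw [← h3, add_smul, ← eci, ← ecj]
    exact S.π_mul _ hi'.1 _ hj'.1
  have hne : ci ≠ cj := fun h => pine _ hnc hacU (by
    rw [ecs, h, show cj + cj = 0 from (by decide +kernel : ∀ k : K4, k + k = 0) cj, zero_smul])
  obtain ⟨ε, hεU, hεN, hεπ, hset⟩ : ∃ ε : ↥(Aelem S), (ε : G) ∈ piU S ∧ ε ∈ D.N ∧
      S.π (ε : G) = ω₄ • S.π (ta : G) ∧ T.duads = {ta, ε, ta * ε} := by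
    have key : ∀ x y : K4, x ≠ 0 → y ≠ 0 → x ≠ y → y = ω₄ * x ∨ x + y = ω₄ * x := by decide +kernel
    rcases key ci cj hci hcj hne with h | h
    · refine ⟨_, hj', hnb, by rw [ecj, eci, smul_smul, h], ?_⟩
      rw [h3]; rfl
    · refine ⟨_, hacU, hnc, by rw [ecs, eci, smul_smul, h], ?_⟩
      rw [show ta * D.e T.a T.c = D.e T.b T.c by rw [hta, D.e_comm T.a T.b, D.e_mul]]
      show ({D.e T.a T.b, D.e T.b T.c, D.e T.a T.c} : Set ↥(Aelem S)) = _
      ext v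
      simp only [Set.mem_insert_iff, Set.mem_singleton_iff, hta]
      tauto
  have hdu : ∀ v, v ∈ T.duads ↔ v = ta ∨ v = ε ∨ v = ta * ε := fun v => by
    rw [hset]; simp only [Set.mem_insert_iff, Set.mem_singleton_iff]
  have hprodN : ta * ε ∈ D.N := by
    have h := (hdu (ta * ε)).2 (Or.inr (Or.inr rfl))
    rcases h with h | h | h <;> rw [h]
    exacts [hnt, hnb, hnc]
  let P : Set G := (fun v : ↥(Aelem S) => (v : G)) '' (T.pnt '' {x | T.Off x})
  have mk : ∀ {x : G}, x ∈ P → ∃ w, T.Off w ∧ x = (T.pnt w : G) := by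
    rintro _ ⟨_, ⟨w, hw, rfl⟩, rfl⟩
    exact ⟨w, hw, rfl⟩
  refine ⟨{ t := (ta : G), e := (ε : G), t_mem := hi', e_mem := hεU, t_nc := hnt, e_nc := hεN,
            te_nc := hprodN, cls_t := ?_, π_e := hεπ, P := P, P_z := ⟨_, ⟨d, hd, he⟩, rfl⟩,
            P_A := ?_, P_conj := ?_, P_nc := ?_, P_card := ?_, char := ?_, trans := ?_,
            pair_not := ?_ }⟩
  · rw [show S.π (ta : G) = ci • rV i from eci]
    exact cls_smul i.2 hci
  · rintro _ ⟨v, -, rfl⟩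
    exact v.2
  · intro x hx
    obtain ⟨w, hw, rfl⟩ := mk hx
    by_contra hcon
    exact (T.pnt_not hw).2 ⟨fun h => (T.pnt_not hw).1 (Subtype.ext h), hcon⟩
  · intro x hx
    obtain ⟨w, hw, rfl⟩ := mk hx
    exact ⟨T.pnt_mul_N hw ((hdu _).2 (Or.inl rfl)), T.pnt_mul_N hw ((hdu _).2 (Or.inr (Or.inl rfl))),
      T.pnt_mul_N hw ((hdu _).2 (Or.inr (Or.inr rfl)))⟩
  · rw [Set.ncard_image_of_injective _ Subtype.val_injective, T.card_pnt]
  · intro s hs hconj h1 h2 h3'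
    obtain ⟨w, hw, e⟩ := T.classify (s := ⟨s, hs⟩) (fun h => by
        have h' : s = 1 := congrArg Subtype.val h
        obtain ⟨c, hc⟩ := isConj_iff.1 (h' ▸ hconj)
        exact S.z_ne (by simpa using hc))
      (fun h => h.2 hconj) (fun v hv => by
        rcases (hdu v).1 hv with rfl | rfl | rfl
        exacts [h1, h2, h3'])
    exact ⟨_, ⟨w, hw, rfl⟩, (congrArg Subtype.val e).symm⟩
  · intro x hx y hy x' hx' y' hy' hxy hxy'
    obtain ⟨u, hu, rfl⟩ := mk hx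
    obtain ⟨v, hv, rfl⟩ := mk hy
    obtain ⟨u', hu', rfl⟩ := mk hx'
    obtain ⟨v', hv', rfl⟩ := mk hy'
    obtain ⟨f, hf, e1, e2⟩ := T.two_trans hu hv hu' hv' (fun h => hxy (by rw [h]))
      (fun h => hxy' (by rw [h]))
    obtain ⟨m, hm⟩ := f.2
    have happ : ∀ a : ↥(Aelem S), ((f : MulAut ↥(Aelem S)) a : G) = m.1 * a * m.1⁻¹ := fun a => by
      rw [← hm]; exact gam_apply S m a
    refine ⟨m.1, ?_, ?_, ?_, ?_⟩
    · have h := happ ta
      rw [hf ta ((hdu _).2 (Or.inl rfl))] at h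
      exact (mul_inv_eq_iff_eq_mul.1 h.symm)
    · have h := happ ε
      rw [hf ε ((hdu _).2 (Or.inr (Or.inl rfl)))] at h
      exact (mul_inv_eq_iff_eq_mul.1 h.symm)
    · rw [← happ, e1]
    · rw [← happ, e2]
  · intro x hx y hy hxy
    obtain ⟨u, hu, rfl⟩ := mk hx
    obtain ⟨v, hv, rfl⟩ := mk hy
    have huv : u ≠ v := fun h => hxy (by rw [h])
    have e : T.pnt u * T.pnt v = D.e u v := T.pnt_pair u v
    refine ⟨?_, ?_, ?_, ?_⟩ <;> intro h <;> obtain ⟨w, hw, hw'⟩ := mk h <;>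
      obtain ⟨k0, k1⟩ := T.pair_shift hu hv hw huv
    · exact k0 (by rw [← e]; exact Subtype.ext hw')
    · exact k1 ta ((hdu _).2 (Or.inl rfl)) (by rw [← e]; exact Subtype.ext hw')
    · exact k1 ε ((hdu _).2 (Or.inr (Or.inl rfl))) (by rw [← e]; exact Subtype.ext hw')
    · exact k1 (ta * ε) ((hdu _).2 (Or.inr (Or.inr rfl))) (by rw [← e]; exact Subtype.ext hw')

end Group

end Cfsg.Agent.H49.USix
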