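import Cfsg.Agent.H18.LFiFi22.CoreData
import Cfsg.Agent.H49.USix.Inst.Frame
import Cfsg.Agent.H49.USix.Inst.Tetrad
import Cfsg.Agent.H49.USix.Swap

/-!
Large Fischer type: the four-group of three duads in a tetrad of `z` has centraliser quasisimple
with quotient PSU6(2).
-/

set_option autoImplicit false
set_option linter.unusedSectionVars false
set_option maxRecDepth 20000

namespace Cfsg.Agent.H49.USix

open Cfsg
open Cfsg.Agent.H41.LFi Cfsg.Agent.H43.LFi Cfsg.Agent.H18.LFiFi22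
open Cfsg.Agent.H41.SUSix (K4 ω₄ cls Vec)
open H76.LocallyS3 (cj cj_cj cj_injective commute_cj_iff)
open Cfsg.Agent.H61.Todd (Nc Nc_conj comm_of_mem A_z mem_normalizer_A mem_B_of_fix smul_U)

universe u

variable {G : Type u} [Group G] [Finite G] {z : G} {Q : Subgroup G} {S : LSetup z Q}

section Data

variable (T : TetData S)
variable (pair : ∀ g : G, g * z * g⁻¹ ∈ Q → g * z * g⁻¹ ≠ z → H92.PairSetting Q z g)

include pair

theorem TetData.line : Line S T.t T.e :=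
  ⟨pair, T.t_mem.1, T.e_mem.1, piU_sq S T.t_mem, piU_sq S T.e_mem, T.cls_t, T.π_e⟩

omit pair in
theorem TetData.A_le_CE {a : G} (ha : a ∈ Aelem S) : a ∈ CE T.t T.e :=
  mem_CE.2 ⟨comm_of_mem S ha (piU_le_A S T.t_mem), comm_of_mem S ha (piU_le_A S T.e_mem)⟩

/-- A quotient of a group of order `2 ^ n` by part of the four-group. -/
theorem TetData.card_bound (B : Subgroup G) (hB : B ≤ Aelem S) (R : Subgroup (LineQuot (T.line pair)))
    (hR : ∀ b (hb : b ∈ B), QuotientGroup.mk' (quadN (T.line pair)) ⟨b, T.A_le_CE (hB hb)⟩ ∈ R) :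
    Nat.card ↥B ≤ 4 * Nat.card ↥R := by
  classical
  let f : ↥B →* ↥R := MonoidHom.mk' (fun b => ⟨_, hR b.1 b.2⟩) fun a b => Subtype.ext
    (map_mul (QuotientGroup.mk' (quadN (T.line pair))) ⟨a.1, T.A_le_CE (hB a.2)⟩ ⟨b.1, T.A_le_CE (hB b.2)⟩)
  have hk : Nat.card ↥f.ker ≤ 4 := by
    have hm : ∀ b : ↥f.ker, (b : ↥B).1 ∈ ({1, T.t, T.e, T.t * T.e} : Set G) := fun b => by
      have h := (QuotientGroup.eq_one_iff _).1 (congrArg Subtype.val b.2)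
      show (b : ↥B).1 = 1 ∨ (b : ↥B).1 = T.t ∨ (b : ↥B).1 = T.e ∨ (b : ↥B).1 = T.t * T.e
      exact (quadN_cases (T.line pair)).1 h
    refine le_trans (Nat.card_le_card_of_injective
      (fun b : ↥f.ker => (⟨(b : ↥B).1, hm b⟩ : ({1, T.t, T.e, T.t * T.e} : Set G)))
      fun a b h => Subtype.ext (Subtype.ext (congrArg (fun v : ({1, T.t, T.e, T.t * T.e} : Set G) => v.1) h))) ?_
    rw [Nat.card_coe_set_eq]
    refine le_trans (Set.ncard_insert_le _ _) (Nat.succ_le_succ ?_)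
    refine le_trans (Set.ncard_insert_le _ _) (Nat.succ_le_succ ?_)
    refine le_trans (Set.ncard_insert_le _ _) (Nat.succ_le_succ ?_)
    rw [Set.ncard_singleton]
  rw [← Subgroup.card_mul_index f.ker, Subgroup.index_ker]
  exact Nat.mul_le_mul hk (Subgroup.card_le_card_group _)

theorem TetData.quot_mem {a b : G} (ha : a ∈ Aelem S) {hb : b ∈ CE T.t T.e}
    (h : QuotientGroup.mk' (quadN (T.line pair)) ⟨b, hb⟩ =
      QuotientGroup.mk' (quadN (T.line pair)) ⟨a, T.A_le_CE ha⟩) :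
    b ∈ Aelem S ∧ (b = a ∨ b = a * T.t ∨ b = a * T.e ∨ b = a * (T.t * T.e)) := by
  have hm := (quadN_cases (T.line pair)).1 (QuotientGroup.eq.1 h.symm)
  simp only [Subgroup.coe_mul, Subgroup.coe_inv] at hm
  have hcases : b = a ∨ b = a * T.t ∨ b = a * T.e ∨ b = a * (T.t * T.e) := by
    rcases hm with e | e | e | e <;> rw [inv_mul_eq_iff_eq_mul] at e
    · exact Or.inl (by rw [e, mul_one])
    · exact Or.inr (Or.inl e)
    · exact Or.inr (Or.inr (Or.inl e))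
    · exact Or.inr (Or.inr (Or.inr e))
  refine ⟨?_, hcases⟩
  have ht := piU_le_A S T.t_mem
  have he := piU_le_A S T.e_mem
  rcases hcases with e | e | e | e <;> rw [e]
  exacts [ha, mul_mem ha ht, mul_mem ha he, mul_mem ha (mul_mem ht he)]

/-- The plane data in the quotient. -/
theorem TetData.exists_frame {k : Equiv.Perm Vec} (hk : k ∈ Kl) (hv : k r5 = S.π T.t) :
    Nonempty (Frame (lineCore (T.line pair) hk hv)) := by
  classical
  set H := T.line pair with hH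
  let mk := QuotientGroup.mk' (quadN H)
  let incl : ↥(Aelem S) →* ↥(CE T.t T.e) := Subgroup.inclusion fun a ha => T.A_le_CE ha
  let Ab : Subgroup (LineQuot H) := (mk.comp incl).range
  have memA : ∀ a (ha : a ∈ Aelem S), mk ⟨a, T.A_le_CE ha⟩ ∈ Ab := fun a ha => ⟨⟨a, ha⟩, rfl⟩
  have core_rep : ∀ q ∈ Ab ⊓ qBar H, ∃ a, ∃ ha : a ∈ piU S, mk ⟨a, T.A_le_CE (piU_le_A S ha)⟩ = q := by
    rintro q ⟨⟨⟨a, ha⟩, rfl⟩, hq⟩
    have haQ : a ∈ Q := (mem_qBar H ⟨a, T.A_le_CE ha⟩).1 hq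
    exact ⟨a, A_inf_Q S ▸ Subgroup.mem_inf.2 ⟨ha, haQ⟩, rfl⟩
  have hpi : ∀ a (ha : a ∈ piU S), (lineCore H hk hv).π (mk ⟨a, T.A_le_CE (piU_le_A S ha)⟩) =
      lam k (S.π a) := fun a ha => piBar_mk H hk hv (c := ⟨a, T.A_le_CE (piU_le_A S ha)⟩) ha.1
  have him : ∀ w, w ∈ (lineCore H hk hv).imA Ab ↔ ∃ u ∈ Uset, lam k u = w := by
    intro w
    constructor
    · rintro ⟨q, hq, rfl⟩
      obtain ⟨a, ha, rfl⟩ := core_rep q hq
      exact ⟨S.π a, ha.2, (hpi a ha).symm⟩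
    · rintro ⟨u, hu, rfl⟩
      obtain ⟨a, haQ, rfl⟩ := S.π_surj u
      exact ⟨_, ⟨memA a (piU_le_A S ⟨haQ, hu⟩), (mem_qBar H _).2 haQ⟩, hpi a ⟨haQ, hu⟩⟩
  have hperp : ∀ u ∈ Uset, Perp (S.π T.t) u := by
    intro u hu
    obtain ⟨a, haQ, rfl⟩ := S.π_surj u
    exact (H.mem_CE_iff haQ).1 (T.A_le_CE (piU_le_A S ⟨haQ, hu⟩))
  have hP0 : ∀ x ∈ T.P, x ∈ CE T.t T.e := fun x hx => T.A_le_CE (T.P_A x hx)
  let f : ↥T.P → LineQuot H := fun x => mk ⟨x.1, hP0 x.1 x.2⟩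
  have hf : Function.Injective f := by
    intro x y h
    obtain ⟨-, hc⟩ := T.quot_mem pair (T.P_A y.1 y.2) (hb := hP0 x.1 x.2) h
    obtain ⟨n1, n2, n3⟩ := T.P_nc y.1 y.2
    rcases hc with e | e | e | e
    · exact Subtype.ext e
    · exact absurd (e ▸ T.P_conj x.1 x.2) n1.2
    · exact absurd (e ▸ T.P_conj x.1 x.2) n2.2
    · exact absurd (e ▸ T.P_conj x.1 x.2) n3.2
  -- conjugates inside the centraliser of the line
  have trans' : ∀ x y x' y' : ↥T.P, x ≠ y → x' ≠ y' →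
      ∃ g : LineQuot H, cj g (f x) = f x' ∧ cj g (f y) = f y' := by
    intro x y x' y' h h'
    obtain ⟨m, mt, me, m1, m2⟩ := T.trans x.1 x.2 y.1 y.2 x'.1 x'.2 y'.1 y'.2
      (fun e => h (Subtype.ext e)) (fun e => h' (Subtype.ext e))
    have hm : m ∈ CE T.t T.e := mem_CE.2 ⟨mt, me⟩
    refine ⟨mk ⟨m, hm⟩, ?_, ?_⟩
    · show mk ⟨m, hm⟩ * mk _ * (mk ⟨m, hm⟩)⁻¹ = _
      rw [← map_inv, ← map_mul, ← map_mul]
      exact congrArg mk (Subtype.ext m1)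
    · show mk ⟨m, hm⟩ * mk _ * (mk ⟨m, hm⟩)⁻¹ = _
      rw [← map_inv, ← map_mul, ← map_mul]
      exact congrArg mk (Subtype.ext m2)
  have nc_conj : ∀ (g : G), g ∈ CE T.t T.e → ∀ a, a * T.t ∈ Nc z → a * T.e ∈ Nc z →
      a * (T.t * T.e) ∈ Nc z → g * a * g⁻¹ * T.t ∈ Nc z ∧ g * a * g⁻¹ * T.e ∈ Nc z ∧
        g * a * g⁻¹ * (T.t * T.e) ∈ Nc z := by
    intro g hg a h1 h2 h3
    obtain ⟨gt, ge⟩ := mem_CE.1 hg
    have key : ∀ s : G, g * s = s * g → a * s ∈ Nc z → g * a * g⁻¹ * s ∈ Nc z := fun s hs h => by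
      have e : g * (a * s) * g⁻¹ = g * a * g⁻¹ * s := by
        calc g * (a * s) * g⁻¹ = g * a * g⁻¹ * (g * s * g⁻¹) := by group
          _ = g * a * g⁻¹ * s := by rw [hs, mul_inv_cancel_right]
      rw [← e]; exact Nc_conj h g
    exact ⟨key _ gt h1, key _ ge h2, key _ ((show Commute g T.t from gt).mul_right ge).eq h3⟩
  refine ⟨{ A := Ab, hz := memA z (z_mem_A S), sq := ?_, comm := ?_, core := ?_, smul := ?_, card := ?_,
            P := Set.range f, P_z := ⟨⟨z, T.P_z⟩, rfl⟩, P_sub := ?_, P_conj := ?_, P_card := ?_,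
            trans := ?_, char := ?_, pair_not := ?_, stab := ?_ }⟩
  · rintro _ ⟨a, rfl⟩
    rw [← map_mul, show a * a = 1 from Subtype.ext (A_sq S a.2), map_one]
  · rintro _ ⟨a, rfl⟩ _ ⟨b, rfl⟩
    rw [← map_mul, ← map_mul, show a * b = b * a from Subtype.ext (comm_of_mem S a.2 b.2)]
  · have h := T.card_bound pair (piU S) (piU_le_A S) (Ab ⊓ qBar H)
      fun b hb => ⟨memA b (piU_le_A S hb), (mem_qBar H _).2 hb.1⟩
    rw [card_piU] at h
    omega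
  · intro w hw c
    obtain ⟨u, hu, rfl⟩ := (him w).1 hw
    exact (him _).2 ⟨c • u, smul_U c hu, lam_smul hk c u⟩
  · have h := T.card_bound pair (Aelem S) le_rfl Ab fun b hb => memA b hb
    rw [H43.LFi.card_A] at h
    omega
  · rintro _ ⟨x, rfl⟩
    exact memA x.1 (T.P_A x.1 x.2)
  · rintro _ ⟨x, rfl⟩
    by_cases h : x = ⟨z, T.P_z⟩
    · exact ⟨1, by rw [h, cj_one']; rfl⟩
    · obtain ⟨g, g1, -⟩ := trans' ⟨z, T.P_z⟩ x x ⟨z, T.P_z⟩ (Ne.symm h) h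
      exact ⟨g, g1⟩
  · rw [← Set.image_univ, Set.ncard_image_of_injective _ hf, Set.ncard_univ, Nat.card_coe_set_eq, T.P_card]
  · rintro _ ⟨x, rfl⟩ _ ⟨y, rfl⟩ _ ⟨x', rfl⟩ _ ⟨y', rfl⟩ h h'
    exact trans' x y x' y' (fun e => h (by rw [e])) (fun e => h' (by rw [e]))
  · rintro g _ ⟨x, rfl⟩ ⟨⟨a, ha⟩, ea⟩
    obtain ⟨c, rfl⟩ := QuotientGroup.mk'_surjective (quadN H) g
    have ea' : mk (c * ⟨x.1, hP0 x.1 x.2⟩ * c⁻¹) = mk ⟨a, T.A_le_CE ha⟩ := by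
      rw [map_mul, map_mul, map_inv]; exact ea.symm
    obtain ⟨hmem, -⟩ := T.quot_mem pair ha ea'
    obtain ⟨n1, n2, n3⟩ := T.P_nc x.1 x.2
    obtain ⟨k1, k2, k3⟩ := nc_conj c.1 c.2 x.1 n1 n2 n3
    have hmem' : c.1 * x.1 * c.1⁻¹ ∈ T.P := T.char _ hmem
      ((T.P_conj x.1 x.2).trans (isConj_iff.2 ⟨c.1, rfl⟩)) k1 k2 k3
    refine ⟨⟨_, hmem'⟩, ?_⟩
    show mk _ = mk c * mk _ * (mk c)⁻¹
    rw [← map_inv, ← map_mul, ← map_mul]
    rfl
  · rintro _ ⟨x, rfl⟩ _ ⟨y, rfl⟩ hne ⟨g, hg⟩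
    obtain ⟨c, rfl⟩ := QuotientGroup.mk'_surjective (quadN H) g
    have hxy : (x : G) * y ∈ Aelem S := mul_mem (T.P_A _ x.2) (T.P_A _ y.2)
    have hg' : mk (c * ⟨z, H.z_mem_CE⟩ * c⁻¹) = mk ⟨(x : G) * y, T.A_le_CE hxy⟩ := by
      rw [map_mul, map_mul, map_inv]
      exact hg.trans (map_mul mk _ _).symm
    obtain ⟨hmem, hcases⟩ := T.quot_mem pair hxy hg'
    obtain ⟨n1, n2, n3⟩ := T.P_nc z T.P_z
    obtain ⟨k1, k2, k3⟩ := nc_conj c.1 c.2 z n1 n2 n3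
    have hin : c.1 * z * c.1⁻¹ ∈ T.P := T.char _ hmem (isConj_iff.2 ⟨c.1, rfl⟩) k1 k2 k3
    obtain ⟨p0, p1, p2, p3⟩ := T.pair_not x.1 x.2 y.1 y.2 fun e => hne (by rw [Subtype.ext e])
    have hcases' : c.1 * z * c.1⁻¹ = (x : G) * y ∨ c.1 * z * c.1⁻¹ = (x : G) * y * T.t ∨
        c.1 * z * c.1⁻¹ = (x : G) * y * T.e ∨ c.1 * z * c.1⁻¹ = (x : G) * y * (T.t * T.e) := hcases
    rcases hcases' with e | e | e | e <;> rw [e] at hin
    exacts [p0 hin, p1 hin, p2 hin, p3 hin]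
  · intro c hc hpres q hq
    obtain ⟨d, hd, rfl⟩ := (quot_comm_z H c).1 hc
    let dz : ↥((Subgroup.centralizer ({z} : Set G)).subgroupOf (CE T.t T.e)) :=
      ⟨d, Subgroup.mem_subgroupOf.2 (Subgroup.mem_centralizer_singleton_iff.2 hd)⟩
    obtain ⟨hK, hρt⟩ := H.ρ_line d.2 hd
    have hU : ∀ u ∈ Uset, S.ρ d.1 u ∈ Uset := by
      intro u hu
      obtain ⟨u', hu', e'⟩ := (him _).1 (hpres _ ((him _).2 ⟨u, hu, rfl⟩))
      have hl : lam k (S.ρ d.1 u) = lam k u' := by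
        rw [e', lam_ρ H hk hv d.2 hd (hperp u hu)]
        show _ = rhoBar H hk hv (mk (dz : ↥(CE T.t T.e))) _
        rw [rhoBar_mk]
        rfl
      have hsum : lam k (S.ρ d.1 u + u') = 0 := by
        rw [lam_add hk, hl]; exact Cfsg.Agent.H49.USix.vec_add_self _
      obtain ⟨a, ha⟩ := lam_eq_zero hk hv
        (perp_add hk hv (perp_ρ H hk hv d.2 hd (hperp u hu)) (hperp u' hu')) hsum
      have e : S.ρ d.1 u = a • S.π T.t + u' := by
        rw [← ha, add_assoc, H43.LFi.vec_add_self, add_zero]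
      rw [e]
      exact Uset.add_mem (smul_U a T.t_mem.2) hu'
    have hB : ∀ b ∈ Bgrp, S.ρ d.1 * b * (S.ρ d.1)⁻¹ ∈ Bgrp := by
      intro b hb
      have hbK : b ∈ Kl := S_le (B_le_S hb)
      refine mem_B_of_fix (Kl.mul_mem (Kl.mul_mem hK hbK) (Kl.inv_mem hK)) fun u hu => ?_
      obtain ⟨w, hw⟩ := (Finite.injective_iff_surjective.1
        (show Function.Injective fun u : ↥Uset => (⟨S.ρ d.1 u, hU u u.2⟩ : ↥Uset) from
          fun x y h => Subtype.ext ((S.ρ d.1).injective (congrArg Subtype.val h)))) ⟨u, hu⟩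
      have hw' : S.ρ d.1 w.1 = u := congrArg Subtype.val hw
      rw [← hw', Equiv.Perm.mul_apply, Equiv.Perm.mul_apply]
      show S.ρ d.1 (b ((S.ρ d.1).symm (S.ρ d.1 w.1))) = _
      rw [Equiv.symm_apply_apply, B_fixes_U hb w.2]
    obtain ⟨⟨a, ha⟩, rfl⟩ := hq
    have hN := mem_normalizer_A S hd hU hB
    refine ⟨⟨d.1 * a * d.1⁻¹, (Subgroup.mem_normalizer_iff.1 hN a).1 ha⟩, ?_⟩
    show mk _ = mk d * mk _ * (mk d)⁻¹
    rw [← map_inv, ← map_mul, ← map_mul]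
    rfl

end Data

/-- The four-group of large Fischer type. -/
theorem exists_four (S : LSetup z Q)
    (pair : ∀ g : G, g * z * g⁻¹ ∈ Q → g * z * g⁻¹ ≠ z → H92.PairSetting Q z g) :
    ∃ t e : G, Line S t e ∧ Six t e ∧ ¬ IsConj z t ∧ t ≠ 1 := by
  obtain ⟨g, hg1, hg2⟩ := S.nwc
  obtain ⟨T⟩ := exists_tetData S (pair g hg1 hg2)
  obtain ⟨k, hk, hv⟩ := root_exists T.cls_t
  obtain ⟨F⟩ := T.exists_frame pair (k := k) hk hv
  obtain ⟨seed⟩ := F.seed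
  obtain ⟨K, i1, i2, hK, ⟨φ⟩⟩ := seed.recognise
  exact ⟨T.t, T.e, T.line pair, six_of_quot (T.line pair) K hK φ, T.t_nc.2, T.t_nc.1⟩

end Cfsg.Agent.H49.USix
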